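import Mathlib
import Cfsg.Agent.H959.Rad3.Node

/-!
# S3831, D0/D1: root group data with abelian root groups (helper38)

`HasAb r G` : `G` has a filtered root group datum of rank at least two in characteristic `r`, the simple root groups are
abelian and of order at least four.
-/

set_option autoImplicit false
set_option linter.unusedSectionVars false

namespace Cfsg.Agent.H38.SN

open Cfsg Subgroup Cfsg.Agent.H459.Rad Cfsg.Agent.H459.Gallery Cfsg.Agent.H459.NonEll Cfsg.Agent.H459.Iface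
open Cfsg.Agent.H459 Cfsg.Agent.H459.RgdRad Cfsg.Agent.H459.SmallNode Cfsg.Agent.H459.NonFix Cfsg.Agent.H959.Rad3.Gal
open Cfsg.Agent.H959.Rad3.Node
open Cfsg.Agent.Schreier.BNSch Cfsg.Agent.FixBN
open scoped commutatorElement

open CoxeterSystem Cfsg.Agent.ChevalleyStructure.CoxeterGeom Cfsg.Agent.Tits.Roots
  Cfsg.Agent.Nodes.Reps Cfsg.Agent.Nodes.BNOf Cfsg.Agent.Nodes.LeviDec Cfsg.Agent.KFacts.RgdCharP
  Cfsg.Agent.KFacts.RgdVJ Cfsg.Agent.KFacts.RgdFilt Cfsg.Agent.KFacts.RgdBorelTits Cfsg.Agent.KFacts.RgdLieCharP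

/-- the simple root groups are abelian and of order at least four -/
def Ab {G : Type*} [Group G] {I : Type*} [DecidableEq I] (X : (I → ℤ) → Subgroup G) : Prop :=
  ∀ i : I, 4 ≤ Nat.card (X (sr i)) ∧ ∀ a ∈ X (sr i), ∀ b ∈ X (sr i), a * b = b * a

/-- filtered root group data of rank at least two, the simple root groups are abelian and of order at least four -/
def HasAb (r : ℕ) (G : Type*) [Group G] : Prop :=
  ∃ (l : ℕ) (M : CoxeterMatrix (Fin l)) (A : Fin l → Fin l → ℤ) (h : IsCartan M A) (T : Subgroup G) (n : Fin l → G)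
    (X : (Fin l → ℤ) → Subgroup G) (R : RGD M.toCoxeterSystem h r T n X) (F : (Fin l → ℤ) → ℝ → Subgroup G),
    Finite M.Group ∧ Nodes.RGDLib.G1 M.toCoxeterSystem h X = ⊤ ∧ Filt R F ∧ 2 ≤ l ∧ Ab X

theorem Ab.map {G H : Type*} [Group G] [Group H] {I : Type*} [DecidableEq I] {X : (I → ℤ) → Subgroup G}
    (h : Ab X) (e : G ≃* H) : Ab (fun x => (X x).map e.toMonoidHom) := by
  intro i
  refine ⟨?_, ?_⟩
  · rw [Nat.card_congr ((X (sr i)).equivMapOfInjective e.toMonoidHom e.injective).toEquiv.symm]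
    exact (h i).1
  · rintro _ ⟨a, ha, rfl⟩ _ ⟨b, hb, rfl⟩
    rw [← map_mul, (h i).2 a ha b hb, map_mul]

theorem HasAb.of_equiv {r : ℕ} {G H : Type*} [Group G] [Group H] [Finite G] (e : G ≃* H) (hG : HasAb r G) :
    HasAb r H := by
  obtain ⟨l, M, A, h, T, n, X, R, F, hW, hX, hF, hl, hE⟩ := hG
  refine ⟨l, M, A, h, T.map e.toMonoidHom, fun i => e (n i), fun x => (X x).map e.toMonoidHom,
    Nodes.RGDLib.rgd_map_of_injective R e.toMonoidHom e.injective, fun x s => (F x s).map e.toMonoidHom, hW, ?_,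
    filt_map hF e.toMonoidHom _, hl, Ab.map hE e⟩
  rw [Nodes.RGDTypeA.G1_map, hX]
  exact Subgroup.map_top_of_surjective _ e.surjective

end Cfsg.Agent.H38.SN
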