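import Mathlib
import Cfsg.Agent.H38.SN.Fam
import Cfsg.Agent.H21.SN.Tools

/-!
# S3831, D1: the rows in characteristic three, `q ≥ 9` (helper38)

`D0` is the theorem of task D0.
-/

set_option autoImplicit false
set_option linter.unusedSectionVars false

namespace Cfsg.Agent.H38.SN

open Cfsg Subgroup Cfsg.Agent.H21.SN

/-- the theorem of task D0 -/
def D0 : Prop := ∀ (G : Type) [Group G] [Finite G] [IsSimpleGroup G], HasAb 3 G → G3 G

variable {K : Type} [Group K] [Finite K] [IsSimpleGroup K]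

theorem four_le {F : Type} [Fintype F] (hq : 9 ≤ Fintype.card F) : 4 ≤ Nat.card F := by
  rw [Nat.card_eq_fintype_card]
  omega

theorem D1 (hd : D0) {F : Type} [Field F] [Fintype F] [CharP F 3] (hq : 9 ≤ Fintype.card F) {n : ℕ} (hn : 3 ≤ n)
    (e : Nonempty (K ≃* Matrix.ProjectiveSpecialLinearGroup (Fin n) F)) : G3 K := by
  have : Fact (Nat.Prime 3) := ⟨Nat.prime_three⟩
  obtain ⟨e⟩ := e
  obtain ⟨k, rfl⟩ : ∃ k, n = k + 1 := ⟨n - 1, by omega⟩
  have : Finite (Matrix.ProjectiveSpecialLinearGroup (Fin (k + 1)) F) := Finite.of_equiv K e.toEquiv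
  exact hd K ((ab_PSL k (by omega) (four_le hq)).of_equiv e.symm)

theorem D2 (hd : D0) {F : Type} [Field F] [Fintype F] [CharP F 3] (hq : 9 ≤ Fintype.card F) {m : ℕ} (hm : 2 ≤ m)
    (e : Nonempty (K ≃* PSp m F)) : G3 K := by
  have : Fact (Nat.Prime 3) := ⟨Nat.prime_three⟩
  obtain ⟨e⟩ := e
  have : Finite (PSp m F) := Finite.of_equiv K e.toEquiv
  exact hd K ((ab_PSp hm (four_le hq)).of_equiv e.symm)

theorem two_ne {F : Type} [Field F] [CharP F 3] : (2 : F) ≠ 0 := by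
  intro h
  have h1 : ((2 : ℕ) : F) = 0 := by exact_mod_cast h
  rw [CharP.cast_eq_zero_iff F 3] at h1
  revert h1
  decide

theorem D4 (hd : D0) {F : Type} [Field F] [Fintype F] [CharP F 3] (hq : 9 ≤ Fintype.card F) {m : ℕ} (hm : 3 ≤ m)
    (e : Nonempty (K ≃* POmega F (quadFormOdd m F))) : G3 K := by
  have : Fact (Nat.Prime 3) := ⟨Nat.prime_three⟩
  obtain ⟨e⟩ := e
  have : Finite (POmega F (quadFormOdd m F)) := Finite.of_equiv K e.toEquiv
  exact hd K ((ab_PO_odd two_ne hm (four_le hq)).of_equiv e.symm)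

theorem D5 (hd : D0) {F : Type} [Field F] [Fintype F] [CharP F 3] (hq : 9 ≤ Fintype.card F) {m : ℕ} (hm : 4 ≤ m)
    (e : Nonempty (K ≃* POmega F (quadFormPlus m F))) : G3 K := by
  have : Fact (Nat.Prime 3) := ⟨Nat.prime_three⟩
  obtain ⟨e⟩ := e
  obtain ⟨k, rfl⟩ : ∃ k, m = k + 3 := ⟨m - 3, by omega⟩
  have : Finite (POmega F (quadFormPlus (k + 3) F)) := Finite.of_equiv K e.toEquiv
  exact hd K ((ab_PO_plus k (four_le hq)).of_equiv e.symm)

theorem D6 (hd : D0) {F : Type} [Field F] [Fintype F] [CharP F 3] (hq : 9 ≤ Fintype.card F) {m : ℕ} (hm : 4 ≤ m)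
    (a b : F) (hab : ∀ t : F, t * t + a * t + b ≠ 0) (e : Nonempty (K ≃* POmega F (quadFormMinus (m - 1) F a b))) :
    G3 K := by
  have : Fact (Nat.Prime 3) := ⟨Nat.prime_three⟩
  obtain ⟨e⟩ := e
  have : Finite (POmega F (quadFormMinus (m - 1) F a b)) := Finite.of_equiv K e.toEquiv
  refine hd K ((ab_PO_minus a b ?_ (by omega) (four_le hq)).of_equiv e.symm)
  intro x y h
  by_cases hy : y = 0
  · subst hy
    refine ⟨?_, rfl⟩
    have h1 : x ^ 2 = 0 := by linear_combination h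
    exact pow_eq_zero_iff two_ne_zero |>.1 h1
  · exfalso
    refine hab (x / y) ?_
    field_simp
    linear_combination h

end Cfsg.Agent.H38.SN
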